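import Cfsg.Agent.H405.S88.NadjP
import Cfsg.Agent.H200.STwo.ESeven
import Cfsg.Agent.H405.OutLie
import Cfsg.Agent.H405.OutGrp
import Cfsg.Agent.H405.CycSyl
import Cfsg.Agent.H405.FamSyl
import Cfsg.Agent.H149.PGOGoal
import Cfsg.Agent.H149.PGUGoal
import Cfsg.Agent.S2130
import Cfsg.Agent.S2474

/-!
# S3588: the classes not adjacent to the odd characteristic occur in the section (helper405)

* `not_pw` : `L` has no elements of order `p w`, `w` in a class of `Star`;
* `not_dvd_K` : `w ∤ |K|`;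
* `index_of` : `w ∣ |G / K : S|` implies that the class `2 d t` occurs in `|S|`;
* `in_star_odd` : the classes of `Star` occur in `|S|`.
-/

set_option autoImplicit false

namespace Cfsg.Agent.H405.S88

open Cfsg Subgroup
open Cfsg.Agent.H425 Cfsg.Agent.OrdDiv Cfsg.Agent.H436 Cfsg.Agent.H425.PartP Cfsg.Agent.H425.Chr
open Cfsg.Agent.H200 Cfsg.Agent.H200.STwo Cfsg.Agent.H403
open Cfsg.Agent.LieClassical.OmegaReindex

universe u v

variable {p n k : ℕ} {T : S88.Ty} {L : Type u} [Group L] {G : Type v} [Group G]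

/-- **nonadjacency** -/
theorem not_pw (D : S88.Dat p T n k L G) (hp2 : p ≠ 2) {d w : ℕ} (hd : Star n T d) (hw : Prim p (d * k) w) :
    ¬ ∃ g : L, orderOf g = p * w := by
  have hp := D.hp
  have hn := D.hn
  have hk := D.hk
  have hL := D.hL
  have hd5 := hd.five_le hn
  have hdk : 5 * 1 ≤ d * k := Nat.mul_le_mul hd5 hk
  have tr : ∀ {L' : Type} [Group L'], (L ≃* L') → (¬ ∃ g : L', orderOf g = p * w) → ¬ ∃ g : L, orderOf g = p * w := by
    rintro L' _ e h ⟨g, hg⟩
    exact h ⟨e g, by rw [MulEquiv.orderOf_eq]; exact hg⟩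
  have hwq : ∀ {F : Type} [Field F] [Fintype F], Fintype.card F = p ^ k → Prim (Nat.card F) d w := by
    intro F _ _ hF
    rw [Nat.card_eq_fintype_card, hF]
    exact prim_of_pow (by omega) (by rwa [mul_comm] at hw)
  cases T with
  | c =>
    obtain ⟨-, -, F, _, _, _, hF, ⟨e⟩⟩ := hL
    refine tr e (chr_psp hp hk hF (by omega) ?_ hw)
    simp only [STwo.Star] at hd
    omega
  | b =>
    obtain ⟨-, ho, F, _, _, _, hF, ⟨e⟩⟩ := hL
    refine tr e ?_
    have h1 := chr_psp (n := n) hp hk hF (by omega) (k := d) (by simp only [STwo.Star] at hd; omega) hw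
    intro h
    apply h1
    exact (Cfsg.Agent.S2474.result (F := F) (by rwa [hF]) n (by omega) p w hp hw.prime
      (prim_ne hw hp (by omega)).symm).1 h
  | pl =>
    obtain ⟨-, F, _, _, _, hF, ⟨e⟩⟩ := hL
    refine tr e ?_
    have hcard : Fintype.card (Fin n ⊕ Fin n) = 2 * n := by simp; ring
    have hD : Cfsg.Agent.H390.Lift.Data (quadPlus n F) :=
      Cfsg.Agent.H390.data_of _ quadPlus_nondegenerate (by rw [hcard]; omega)
      (quadPlus_isotropic (by omega)) (Or.inr (by rw [hcard]; omega))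
    rw [← coe_quadPlus]
    simp only [STwo.Star] at hd
    exact nadj_p_of hp hp2 hD (by omega) hcard (hwq hF) (m := eta d) (isEta d) (by have := eta_cases d; omega)
  | mi =>
    obtain ⟨-, F, _, _, _, a, b, hF, hab, ⟨e⟩⟩ := hL
    refine tr e ?_
    have hcard : Fintype.card ((Fin (n - 1) ⊕ Fin (n - 1)) ⊕ Fin 2) = 2 * n := by simp; omega
    have hD : Cfsg.Agent.H390.Lift.Data (quadMinus (n - 1) F a b) :=
      Cfsg.Agent.H390.data_of _ (quadMinus_nondegenerate hab) (by rw [hcard]; omega)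
      (quadMinus_isotropic (by omega) a b) (Or.inr (by rw [hcard]; omega))
    rw [← coe_quadMinus]
    simp only [STwo.Star] at hd
    exact nadj_p_of hp hp2 hD (by omega) hcard (hwq hF) (m := eta d) (isEta d) (by have := eta_cases d; omega)

section Main

variable [Finite L] [Finite G] {K : Subgroup G} [K.Normal] {S : Subgroup (G ⧸ K)}

/-- a class `a ≥ 5` of `|S|` -/
theorem big_class (D : S88.Dat p T n k L G) (R : S88.Fr K S) : ∃ a, 5 ≤ a ∧ In p (Nat.card ↥S) (a * k) := by
  have F := fac_of D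
  have Q := sec_of D.hsp R
  have hn := D.hn
  have hk := D.hk
  have em : ∀ {a : ℕ}, 5 ≤ a → a ≠ 6 → a * k ≠ 6 := by
    intro a h1 h2 h
    have h3 : a ∣ 6 := Dvd.intro _ h
    have h4 := Nat.le_of_dvd (by norm_num) h3
    have h5 : a = 5 := by omega
    subst h5
    exact absurd h3 (by decide)
  have e5 : eta 5 = 5 := rfl
  have e3 : eta 3 = 3 := rfl
  have e6 : eta 6 = 3 := rfl
  have e8 : eta 8 = 4 := rfl
  have e10 : eta 10 = 5 := rfl
  rcases Nat.lt_or_ge n 6 with h | h
  · obtain rfl : n = 5 := by omega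
    have key5 : ∀ a b, 5 ≤ a → a ≠ 6 → 5 ≤ b → b ≠ 6 → KT 5 T a → KT 5 T b → KT 5 T 6 → KT 5 T 3 → 5 < eta a + eta b →
        5 < eta a + 3 → 5 < eta b + 3 → Rat a b → Rat a 6 → Rat b 6 → Rat a 3 → Rat b 3 →
        ∃ a, 5 ≤ a ∧ In p (Nat.card ↥S) (a * k) := by
      intro a b ha ha6 hb hb6 ka kb k6 k3 hab ha3 hb3 rab ra6 rb6 ra3 rb3
      have h1 : In p (Nat.card ↥S) (a * k) ∨ In p (Nat.card ↥S) (b * k) := by
        by_cases hk1 : k = 1
        · exact Q.miss F (by norm_num) (j := 3) (by omega) (by omega) (by omega) ka kb k3 hab (by omega) (by omega) rab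
            ra3 rb3 (em ha ha6) (em hb hb6) (by omega)
        · exact Q.miss F (by norm_num) (j := 6) (by omega) (by omega) (by omega) ka kb k6 hab (by omega) (by omega) rab
            ra6 rb6 (em ha ha6) (em hb hb6) (by omega)
      exact h1.elim (fun h => ⟨a, ha, h⟩) (fun h => ⟨b, hb, h⟩)
    cases T with
    | pl =>
      exact key5 8 5 (by omega) (by omega) (by omega) (by omega) (Or.inl (by omega)) (Or.inr (by omega))
        (Or.inl (by omega)) (Or.inr (by omega)) (by omega) (by omega) (by omega) (rat_of_lt (by omega) (by omega))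
        (rat_of_lt (by omega) (by omega)) (rat_of_lt (by omega) (by omega)).symm (rat_of_lt (by omega) (by omega))
        (rat_of_lt (by omega) (by omega))
    | _ =>
      exact key5 10 8 (by omega) (by omega) (by omega) (by omega) (Or.inl (by omega)) (Or.inl (by omega))
        (Or.inl (by omega)) (Or.inr (by omega)) (by omega) (by omega) (by omega) (rat_of_lt (by omega) (by omega))
        (rat_of_lt (by omega) (by omega)) (rat_of_lt (by omega) (by omega))
        (rat_of_parity (by omega) (by omega) (by omega) (by omega)) (rat_of_lt (by omega) (by omega))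
  · have ka : KT n T (2 * (n - 1)) := by
      cases T <;> exact Or.inl (by omega)
    have kb : KT n T (2 * (n - 2)) := by
      cases T <;> exact Or.inl (by omega)
    have ea := eta_cases (2 * (n - 1))
    have eb := eta_cases (2 * (n - 2))
    have h1 : In p (Nat.card ↥S) (2 * (n - 1) * k) ∨ In p (Nat.card ↥S) (2 * (n - 2) * k) := by
      by_cases h67 : n = 6
      · subst h67
        have k5 : KT 6 T 5 := by
          cases T <;> exact Or.inr (by omega)
        exact Q.miss F (by norm_num) (j := 5) (by omega) (by omega) (by omega) ka kb k5 (by omega) (by omega) (by omega)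
          (rat_of_lt (by omega) (by omega)) (rat_of_parity (by omega) (by omega) (by omega) (by omega))
          (rat_of_lt (by omega) (by omega)) (em (by omega) (by omega)) (em (by omega) (by omega))
          (em (by omega) (by omega))
      · have kj : KT n T (2 * (n - 3)) := by
          cases T <;> exact Or.inl (by omega)
        have ej := eta_cases (2 * (n - 3))
        exact Q.miss F (by omega) (by omega) (by omega) (by omega) ka kb kj (by omega) (by omega) (by omega)
          (rat_of_lt (by omega) (by omega)) (rat_of_lt (by omega) (by omega))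
          (rat_of_lt (by omega) (by omega)) (em (by omega) (by omega)) (em (by omega) (by omega))
          (em (by omega) (by omega))
    exact h1.elim (fun h => ⟨_, by omega, h⟩) (fun h => ⟨_, by omega, h⟩)

/-- the classes of `Star` do not occur in `|K|` -/
theorem not_dvd_K (D : S88.Dat p T n k L G) (R : S88.Fr K S) (hl : IsLieTypeChar p ↥S) (hp2 : p ≠ 2) {d w : ℕ}
    (hd : Star n T d) (hw : Prim p (d * k) w) : ¬ w ∣ Nat.card ↥K := by
  intro hwK
  have := Fact.mk D.hp
  have := R.simple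
  have := R.norm
  have hn := D.hn
  have hk := D.hk
  have hd5 := hd.five_le hn
  have hdk : 5 * 1 ≤ d * k := Nat.mul_le_mul hd5 hk
  obtain ⟨W⟩ : Nonempty (Sylow p ↥S) := inferInstance
  have a1 : ¬ ∃ x : G, orderOf x = w * p := by
    rw [mul_comm]
    exact fun h => not_pw D hp2 hd hw ((D.hsp _).1 h)
  have hc := RadGrp.isCyclic_of_rad K hw.prime D.hp hp2 (prim_ne hw D.hp (by omega)) hwK a1
    ((W : Subgroup ↥S).map S.subtype) (W.isPGroup'.map _)
  have hc' : IsCyclic ↥(W : Subgroup ↥S) :=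
    isCyclic_of_injective ((W : Subgroup ↥S).equivMapOfInjective _ S.subtype_injective).toMonoidHom
      ((W : Subgroup ↥S).equivMapOfInjective _ S.subtype_injective).injective
  have h1 := CycSyl.card_sylow hp2 R.nonab hl W hc'
  obtain ⟨a, ha5, x, hx, hxS⟩ := big_class D R
  have hak : 5 * 1 ≤ a * k := Nat.mul_le_mul ha5 hk
  rcases FamSyl.dvd_of_card_sylow hl W h1 hx.prime hxS with h2 | h2
  · exact prim_ne hx D.hp (by omega) h2
  · have h3 := Nat.le_of_dvd (by norm_num) ((hx.dvd_iff 2).1 h2)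
    omega

/-- the classes of `Star` in the index -/
theorem index_of (D : S88.Dat p T n k L G) (R : S88.Fr K S) (hl : IsLieTypeChar p ↥S) (hp2 : p ≠ 2) {d w : ℕ}
    (hd : Star n T d) (hw : Prim p (d * k) w) (h : w ∣ S.index) :
    ∃ t, 1 ≤ t ∧ KT n T (2 * d * t) ∧ In p (Nat.card ↥S) (2 * d * t * k) := by
  have := Fact.mk D.hp
  have := R.simple
  have := R.norm
  have hn := D.hn
  have hk := D.hk
  have F := fac_of D
  have Q := sec_of D.hsp R
  have hd5 := hd.five_le hn
  have hdk : 5 * 1 ≤ d * k := Nat.mul_le_mul hd5 hk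
  have a1 : ¬ ∃ x : G, orderOf x = w * p := by
    rw [mul_comm]
    exact fun h => not_pw D hp2 hd hw ((D.hsp _).1 h)
  obtain ⟨c, hc⟩ := OutNode.fpf_of_lie D.hp hp2 hl
  obtain ⟨m, hm1, hm2, -, hm3⟩ := OutGrp.out_fpf S hw.prime (prim_ne_two hw (by omega)) (prim_ne hw D.hp (by omega)) h
    (fun h' => a1 (H414.Adj.exists_order_quot K (Nat.mul_ne_zero hw.prime.ne_zero D.hp.ne_zero) h')) hc
  obtain ⟨t, rfl⟩ : d * k ∣ m := (hw.dvd_iff m).1 hm2
  have ht : 1 ≤ t := by
    rcases Nat.eq_zero_or_pos t with h0 | h0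
    · rw [h0, mul_zero] at hm1
      omega
    · exact h0
  have h5 : 5 * 1 ≤ d * k * t := Nat.mul_le_mul (by omega) ht
  obtain ⟨v, hv⟩ := exists_prim_two D.hp (e := 2 * (d * k * t)) (by omega) (by omega)
  have hvm : v ∣ p ^ (d * k * t) + 1 := hv.dvd_add dvd_rfl (by
    intro h1
    have := Nat.le_of_dvd hm1 h1
    omega)
  have hvS := hm3 v hv.prime (H426.LieFam.Prim_five_le hv (by omega)) hvm
  have e1 : 2 * (d * k * t) = 2 * d * t * k := by ring
  have hin : In p (Nat.card ↥S) (2 * d * t * k) := ⟨v, by rw [← e1]; exact hv, hvS⟩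
  refine ⟨t, ht, ?_, hin⟩
  have h6 : 5 * 1 ≤ d * t := Nat.mul_le_mul hd5 ht
  have h0 := Q.ppd F (K0 := fun d => d < 3 ∨ KT n T d) (fun d _ h => Or.inr h) (fun d h => Or.inl h) (2 * d * t * k)
    (by omega) hin
  rw [Nat.gcd_eq_right (Dvd.intro_left _ rfl), Nat.mul_div_cancel _ (by omega)] at h0
  rcases h0 with h0 | h0
  · rw [mul_assoc] at h0
    omega
  · exact h0

/-- a prime of `Star` does not divide the order of `Out(S)` for the groups without the class -/
theorem not_dvd_out (hp : p.Prime) {d w : ℕ} (hd5 : 5 ≤ d) (hk : 1 ≤ k) (hw : Prim p (d * k) w) {S : Type v} [Group S]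
    {fam : H426.LieFam.Fam} (hS : fam.Is p k S)
    (hf : fam = .ominus d ∨ fam = .psu d ∨ fam = .psu (d + 1) ∨ fam = .te6) : ¬ w ∣ Nat.card (Cfsg.Out S) := by
  have := Fact.mk hp
  have hdk : 5 * 1 ≤ d * k := Nat.mul_le_mul hd5 hk
  have hkd : 1 * k ≤ d * k := Nat.mul_le_mul_right _ (by omega)
  have hlt := H426.LieFam.Prim_lt hw
  have hwp := hw.prime
  have hwk : ¬ w ∣ k := by
    intro h
    have := Nat.le_of_dvd (by omega) h
    omega
  have hw2 : ¬ w ∣ 2 := by
    intro h
    have := Nat.le_of_dvd (by norm_num) h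
    omega
  have hw3 : ¬ w ∣ 3 := by
    intro h
    have := Nat.le_of_dvd (by norm_num) h
    omega
  have hpsu : ∀ N, ¬ w ∣ Nat.gcd N (p ^ k + 1) * (2 * k) := by
    intro N h
    rcases hwp.dvd_mul.1 h with h | h
    · have h1 : w ∣ p ^ k + 1 := h.trans (Nat.gcd_dvd_right _ _)
      have h2 : w ∣ p ^ (2 * k) - 1 := by
        have h3 : p ^ (2 * k) - 1 = (p ^ k + 1) * (p ^ k - 1) := by
          rw [mul_comm 2 k, pow_mul, sq, ← Nat.mul_self_sub_mul_self_eq (p ^ k) 1]
        rw [h3]
        exact h1.mul_right _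
      have h3 := Nat.le_of_dvd (by omega) ((hw.dvd_iff _).1 h2)
      have h4 : 5 * k ≤ d * k := Nat.mul_le_mul_right _ hd5
      omega
    · rcases hwp.dvd_mul.1 h with h | h
      · exact hw2 h
      · exact hwk h
  rcases hf with rfl | rfl | rfl | rfl
  · obtain ⟨hm, F, _, _, _, a, b, hF, hab, ⟨e⟩⟩ := hS
    rw [Cfsg.Agent.H934.OutB.card_out_congr e]
    intro h
    have h1 := h.trans (H149.PGO.card_out_minus hk hF hm a b hab)
    rcases hwp.dvd_mul.1 h1 with h2 | h2
    · have h3 : w ∣ 2 ^ 3 * 3 := h2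
      rcases hwp.dvd_mul.1 h3 with h4 | h4
      · exact hw2 (hwp.dvd_of_dvd_pow h4)
      · exact hw3 h4
    · exact hwk h2
  · obtain ⟨hm, h32, F, _, _, _, hF, ⟨e⟩⟩ := hS
    rw [Cfsg.Agent.H934.OutB.card_out_congr e, H149.PGU.card_out_psu hk rfl hF hm h32]
    exact hpsu _
  · obtain ⟨hm, h32, F, _, _, _, hF, ⟨e⟩⟩ := hS
    rw [Cfsg.Agent.H934.OutB.card_out_congr e, H149.PGU.card_out_psu hk rfl hF hm h32]
    exact hpsu _
  · obtain ⟨F, _, _, _, hF, ⟨e⟩⟩ := hS
    rw [Cfsg.Agent.H934.OutB.card_out_congr e, Cfsg.Agent.S2130.result p k (by rw [hF, ← pow_mul, mul_comm]) hk]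
    intro h
    rcases hwp.dvd_mul.1 h with h | h
    · rcases hwp.dvd_mul.1 h with h | h
      · exact hw2 h
      · exact hw3 (h.trans (Nat.gcd_dvd_left _ _))
    · exact hwk h

/-- **The classes of `Star` occur in `|S|`, odd characteristic.** -/
theorem in_star_odd (D : S88.Dat p T n k L G) (R : S88.Fr K S) (hl : IsLieTypeChar p ↥S) (hp2 : p ≠ 2) {d : ℕ}
    (hd : Star n T d) : In p (Nat.card ↥S) (d * k) := by
  have hn := D.hn
  have hk := D.hk
  have hp := D.hp
  have hd5 := hd.five_le hn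
  have hdk : 5 * 1 ≤ d * k := Nat.mul_le_mul hd5 hk
  have h6 := star_ne_six (m := k) hn hd
  obtain ⟨w, hw⟩ := exists_prim_two hp (e := d * k) (by omega) h6
  have F := fac_of D
  have Q := sec_of D.hsp R
  have hwL : w ∣ Nat.card L := F.dvd_of hw (by omega) (hd.kt hn)
  have hwG : w ∣ Nat.card G := (dvd_iff_of D.hsp hw.prime).2 hwL
  by_contra hcon
  have hwS : ¬ w ∣ Nat.card ↥S := fun h => hcon ⟨w, hw, h⟩
  have hwK := not_dvd_K D R hl hp2 hd hw
  have hwi : w ∣ S.index := by
    rw [card_split K S] at hwG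
    exact ((hw.prime.dvd_mul.1 ((hw.prime.dvd_mul.1 hwG).resolve_left hwK)).resolve_left hwS)
  obtain ⟨t, ht, hKt, hin⟩ := index_of D R hl hp2 hd hw hwi
  -- the section
  obtain ⟨fam, f, d', N', hIs, hSh⟩ := H426.LieFam.exists_fam hp hl
  have H := dat_of_is hp hSh.f_pos hIs
  have key : ∀ N, N = d → N % 2 = 1 → Side p N k (Nat.card ↥S) → False := by
    rintro N rfl hN2 P
    have hgcd : Nat.gcd (N * k) k = k := Nat.gcd_eq_right (Dvd.intro_left _ rfl)
    have hq : N * k / k = N := Nat.mul_div_cancel _ (by omega)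
    rcases P.main H with h | ⟨hf, h⟩
    · obtain ⟨hf, hfam⟩ := fam_of_nm hp (b := .psl N) h
      apply hcon
      have e1 : Nat.gcd (N * k) f = k := by
        rw [hf, Nat.gcd_mul_right]
        have : Nat.gcd N 2 = 1 := by
          rw [Nat.gcd_comm, ← Nat.Coprime, Nat.coprime_two_left]
          exact Nat.odd_iff.2 hN2
        rw [this, one_mul]
      refine H.in_of (by rw [e1, hq]; omega) h6 ?_
      rw [e1, hq, h]
      exact le_rfl
    · subst hf
      have hcl : ∀ {g : Grp}, nm (p ^ f) fam = g → Chr.K g N → False := by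
        intro g hg hK
        apply hcon
        refine H.in_of (by rw [hgcd, hq]; omega) h6 ?_
        rw [hgcd, hq, hg]
        exact hK
      have hout : (fam = .ominus N ∨ fam = .psu N ∨ fam = .psu (N + 1) ∨ fam = .te6) → False := fun hf =>
        not_dvd_out hp hd5 hk hw hIs hf (hwi.trans (ESeven.fr_index R))
      rcases h with h | h | h | ⟨-, h | h⟩ | ⟨-, h⟩ | ⟨h9, h⟩ | ⟨-, h⟩
      · exact hcl h ((K_psp (by omega)).2 (Or.inr ⟨hN2, le_rfl⟩))
      · exact hcl h ((K_oodd (by omega)).2 (Or.inr ⟨hN2, le_rfl⟩))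
      · exact hout (Or.inl (fam_of_nm hp (b := .ominus N) h).2)
      · exact hout (Or.inr (Or.inl (fam_of_nm hp (b := .psu N) h).2))
      · exact hout (Or.inr (Or.inr (Or.inl (fam_of_nm hp (b := .psu (N + 1)) h).2)))
      · exact hcl h ((K_oplus (m := N + 1) (d := N) (by omega) (by omega)).2 (Or.inr ⟨hN2, by omega⟩))
      · refine hcl h ?_
        subst h9
        show 9 ∣ 2 ∨ 9 ∣ 6 ∨ 9 ∣ 8 ∨ 9 ∣ 10 ∨ 9 ∣ 12 ∨ 9 ∣ 14 ∨ 9 ∣ 18
        decide
      · exact hout (Or.inr (Or.inr (Or.inr (fam_of_nm hp (b := .te6) h).2)))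
  have h2t : 2 * d * 1 ≤ 2 * d * t := Nat.mul_le_mul_left _ ht
  have ht1 : 2 * d * t = 2 * d → In p (Nat.card ↥S) (2 * d * k) := fun h => by rwa [h] at hin
  cases T with
  | c =>
    simp only [KT, KC] at hKt
    simp only [STwo.Star] at hd
    have e1 : d = n ∧ n % 2 = 1 := by omega
    obtain ⟨rfl, ho⟩ := e1
    exact key d rfl ho (Q.side F hn (Or.inl rfl) (fun d _ h => h)
      (fun d h => by simp only [KT, MS, KC] at h ⊢; omega) (show KC d 6 from Or.inl ⟨rfl, by omega⟩) (ht1 (by omega)))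
  | b =>
    simp only [KT, KC] at hKt
    simp only [STwo.Star] at hd
    have e1 : d = n ∧ n % 2 = 1 := by omega
    obtain ⟨rfl, ho⟩ := e1
    exact key d rfl ho (Q.side F hn (Or.inl rfl) (fun d _ h => h)
      (fun d h => by simp only [KT, MS, KC] at h ⊢; omega) (show KC d 6 from Or.inl ⟨rfl, by omega⟩) (ht1 (by omega)))
  | pl =>
    simp only [KT, KP] at hKt
    simp only [STwo.Star] at hd
    have e1 : d = n - 1 ∧ n % 2 = 0 := by omega
    obtain ⟨rfl, ho⟩ := e1
    exact key (n - 1) rfl (by omega) (Q.side F (by omega) (Or.inr ⟨by omega, by omega⟩)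
        (fun d h1 h2 => by simp only [KT, KP, KC] at h2 ⊢; omega)
        (fun d h1 => by simp only [KT, MS, KP] at h1 ⊢; omega) (show KP n 6 from Or.inl ⟨rfl, by omega⟩) (ht1 (by omega)))
  | mi =>
    simp only [KT, KM] at hKt
    simp only [STwo.Star] at hd
    omega

end Main

end Cfsg.Agent.H405.S88
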